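import Cfsg.Agent.Lib.ZStar.Main

/-!
# Z* for weakly closed 2-elements
-/

set_option autoImplicit false
set_option linter.unusedSectionVars false
set_option linter.style.haveILetI false

namespace Cfsg.Agent.ZStar

open Subgroup
open Cfsg.Agent.Tr (SylowIn)

universe u

section

variable {G : Type*} [Group G] [Finite G] {p : ℕ} [Fact p.Prime]

theorem wc_pow (S : Sylow p G) {x : G} (hx : x ∈ (S : Subgroup G))
    (h : ∀ g : G, g * x * g⁻¹ ∈ (S : Subgroup G) → g * x * g⁻¹ = x) (m : ℕ) (g : G)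
    (hg : g * x ^ m * g⁻¹ ∈ (S : Subgroup G)) : g * x ^ m * g⁻¹ = x ^ m := by
  have hxp : IsPGroup p (zpowers x) := S.isPGroup'.to_le (zpowers_le.2 hx)
  have h1 : zpowers x ≤ centralizer ({g * x ^ m * g⁻¹} : Set G) := by
    refine zpowers_le.2 (mem_centralizer_singleton_iff.2 ?_)
    have := h _ (mul_mem (mul_mem hg hx) (inv_mem hg))
    exact (mul_inv_eq_iff_eq_mul.1 this).symm
  have h2 : zpowers (g * x * g⁻¹) ≤ centralizer ({g * x ^ m * g⁻¹} : Set G) :=
    zpowers_le.2 (mem_centralizer_singleton_iff.2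
      (Tr.commute_conj_iff.2 (Commute.self_pow x m)).eq)
  obtain ⟨c, hc, k, a1, a2⟩ := TwoGrp.exists_conj_mem_two S
    (by rw [← Tr.cj_zpowers]; exact Tr.isPGroup_cj g hxp) h2 hxp h1
  have b1 := a1 _ (mem_zpowers _)
  have b2 := h k (a2 _ (mem_zpowers _))
  have b3 := h (k * c * g) (by convert b1 using 1; group)
  have b4 : c * g * x * (c * g)⁻¹ = x := by
    calc c * g * x * (c * g)⁻¹ = k⁻¹ * (k * c * g * x * (k * c * g)⁻¹) * k := by group
      _ = k⁻¹ * (k * x * k⁻¹) * k := by rw [b3, b2]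
      _ = x := by group
  calc g * x ^ m * g⁻¹ = c * (g * x ^ m * g⁻¹) * c⁻¹ := by
        rw [mem_centralizer_singleton_iff.1 hc, mul_inv_cancel_right]
    _ = (c * g * x * (c * g)⁻¹) ^ m := by rw [conj_pow]; group
    _ = x ^ m := by rw [b4]

theorem wc_quot (S : Sylow p G) {x : G} (hx : x ∈ (S : Subgroup G))
    (h : ∀ g : G, g * x * g⁻¹ ∈ (S : Subgroup G) → g * x * g⁻¹ = x) (N : Subgroup G) [N.Normal]
    (g : G ⧸ N) (hg : g * x * g⁻¹ ∈ (S : Subgroup G).map (QuotientGroup.mk' N)) :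
    g * x * g⁻¹ = x := by
  obtain ⟨g, rfl⟩ := QuotientGroup.mk_surjective g
  have hxp : IsPGroup p (zpowers x) := S.isPGroup'.to_le (zpowers_le.2 hx)
  have h1 : g * x * g⁻¹ ∈ (S : Subgroup G) ⊔ N := by
    rw [← Fit.comap_map_mk']
    exact hg
  obtain ⟨c, hc, h2⟩ := TwoGrp.exists_conj_mem_of_le S le_sup_left
    (by rw [← Tr.cj_zpowers]; exact Tr.isPGroup_cj g hxp) (zpowers_le.2 h1)
  have h3 := h (c * g) (by convert h2 _ (mem_zpowers _) using 1; group)
  obtain ⟨s, hs, n, hn, rfl⟩ := mem_sup_of_normal_right.1 hc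
  have h4 := h s (mul_mem (mul_mem hs hx) (inv_mem hs))
  have h5 : n * (g * x * g⁻¹) * n⁻¹ = x := by
    calc n * (g * x * g⁻¹) * n⁻¹ = s⁻¹ * (s * n * g * x * (s * n * g)⁻¹) * s := by group
      _ = s⁻¹ * (s * x * s⁻¹) * s := by rw [h3, h4]
      _ = x := by group
  have h6 := congrArg (QuotientGroup.mk : G → G ⧸ N) h5
  simpa [(QuotientGroup.eq_one_iff n).2 hn] using h6

end

theorem zstar_wc_aux (n : ℕ) : ∀ (G : Type u) [Group G] [Finite G], Nat.card G = n →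
    ∀ (S : Sylow 2 G) (x : G), x ∈ (S : Subgroup G) →
    (∀ g : G, g * x * g⁻¹ ∈ (S : Subgroup G) → g * x * g⁻¹ = x) →
    ∀ g, x * g * x⁻¹ * g⁻¹ ∈ pPrimeCore 2 G := by
  induction n using Nat.strong_induction_on with
  | _ n ih =>
  intro G _ _ hn S x hx h
  have ihq : ∀ (N : Subgroup G) [N.Normal], N ≠ ⊥ → ∀ g : G,
      x * g * x⁻¹ * g⁻¹ ∈ (pPrimeCore 2 (G ⧸ N)).comap (QuotientGroup.mk' N) := by
    intro N _ hN g
    have := ih _ (hn ▸ Fit.card_quotient_lt hN) (G ⧸ N) rfl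
      (S.mapSurjective (QuotientGroup.mk'_surjective N)) x (mem_map_of_mem _ hx)
      (wc_quot S hx h N) g
    simpa [mem_comap] using this
  intro g
  by_cases hO : pPrimeCore 2 G = ⊥
  swap
  · have := ihq _ hO g
    rwa [Fit.pPrimeCore_quotient_pPrimeCore, MonoidHom.comap_bot, QuotientGroup.ker_mk'] at this
  by_cases hx1 : x = 1
  · simp [hx1]
  obtain ⟨k, hk⟩ := S.isPGroup' ⟨x, hx⟩
  obtain ⟨j, hj1, hj2⟩ := TwoGrp.exists_involution_zpowers (z := x) (congrArg Subtype.val hk) hx1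
  have hz2 := Tr.orderOf_eq_two hj2 hj1
  have hz : x ^ j ∈ center G := zstar_center hO
    (Tr.Iso.of_sylow (SylowIn.top S) hz2 (wc_pow S hx h j))
  have hzc : zpowers (x ^ j) ≤ center G := zpowers_le.2 hz
  haveI := normal_of_le_center' hzc
  have h1 := ihq (zpowers (x ^ j)) (by simpa using hj1) g
  have h2 := le_of_central_of_coprime hO hzc (Tr.isPGroup_zpowers_of_orderOf_eq hz2)
    (Fit.le_comap_mk' _ (pPrimeCore 2 (G ⧸ zpowers (x ^ j)))) (by
      rw [Fit.relIndex_comap_mk']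
      exact Fit.coprime_card_pPrimeCore 2 _) h1
  have h3 : x * g * x⁻¹ * g⁻¹ ∈ (S : Subgroup G) := zpowers_le.2 (pow_mem hx j) h2
  have h4 := h g (by
    convert mul_mem (inv_mem h3) hx using 1
    group)
  rw [show x * g * x⁻¹ * g⁻¹ = x * (g * x * g⁻¹)⁻¹ by group, h4, mul_inv_cancel]
  exact one_mem _

/-- Z\* for a 2-element that is weakly closed in a Sylow 2-subgroup. -/
theorem zstar_wc {G : Type*} [Group G] [Finite G] (S : Sylow 2 G) {x : G}
    (hx : x ∈ (S : Subgroup G))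
    (h : ∀ g : G, g * x * g⁻¹ ∈ (S : Subgroup G) → g * x * g⁻¹ = x) (g : G) :
    x * g * x⁻¹ * g⁻¹ ∈ pPrimeCore 2 G := zstar_wc_aux _ G rfl S x hx h g

end Cfsg.Agent.ZStar
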